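import Mathlib.AlgebraicGeometry.Morphisms.Affine
import Mathlib.AlgebraicGeometry.Morphisms.Separated
import Mathlib.AlgebraicGeometry.IdealSheaf.Subscheme
import Mathlib.AlgebraicGeometry.Limits
import Groth.Prelude.Def_MoreMor

/-!
# Building affine stratifications
-/

set_option autoImplicit false
universe u

open AlgebraicGeometry CategoryTheory TopologicalSpace

namespace Groth.Agent.AffStrat

variable {X : Scheme.{u}}

/-- A stratum cut out of a closed set by finitely many affine opens which are disjoint on it. -/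
theorem exists_stratum {C : Set X} (hC : IsClosed C) {σ : Type*} [Finite σ] (U : σ → X.Opens)
    (hU : ∀ a, IsAffineOpen (U a)) (hdisj : ∀ a b, a ≠ b → ∀ x ∈ C, x ∈ U a → x ∉ U b) :
    ∃ (Z : Scheme.{u}) (i : Z ⟶ X), IsImmersion i ∧ IsAffine Z ∧
      Set.range i = C ∩ ⋃ a, (U a : Set X) ∧
      ∀ V : X.Opens, (∀ a, (∀ x ∈ C, x ∈ U a → x ∈ V) ∨ (∀ x ∈ C, x ∈ U a → x ∉ V)) →
        IsAffineOpen (i ⁻¹ᵁ V) := by
  let O : X.Opens := ⨆ a, U a
  let I := Scheme.IdealSheafData.vanishingIdeal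
    (⟨O.ι ⁻¹' C, hC.preimage O.ι.continuous⟩ : Closeds O.toScheme)
  let i := I.subschemeι ≫ O.ι
  have hrange : Set.range i = C ∩ ⋃ a, (U a : Set X) := by
    rw [Scheme.Hom.comp_base, TopCat.coe_comp, Set.range_comp, Scheme.IdealSheafData.range_subschemeι,
      Scheme.IdealSheafData.coe_support_vanishingIdeal]
    show O.ι '' (O.ι ⁻¹' C) = _
    rw [Set.image_preimage_eq_inter_range, O.range_ι]
    simp [O]
  let P : σ → I.subscheme.Opens := fun a => i ⁻¹ᵁ U a
  have hP : ∀ a, IsAffineOpen (P a) := fun a =>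
    ((hU a).preimage_of_isOpenImmersion O.ι (by rw [Scheme.Opens.opensRange_ι]; exact le_iSup U a)).preimage
      I.subschemeι
  have hmem : ∀ z, i z ∈ C ∧ ∃ a, i z ∈ U a := fun z => by
    have h : i z ∈ C ∩ ⋃ a, (U a : Set X) := hrange ▸ ⟨z, rfl⟩
    exact ⟨h.1, Set.mem_iUnion.mp h.2⟩
  have hPd : ∀ a b, a ≠ b → Disjoint (P a) (P b) := fun a b hab => by
    rw [disjoint_iff, eq_bot_iff]
    rintro z ⟨ha, hb⟩
    exact (hdisj a b hab _ (hmem z).1 ha hb).elim
  refine ⟨I.subscheme, i, inferInstance, ?_, hrange, fun V hV => ?_⟩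
  · have h := IsAffineOpen.iSup_of_disjoint hP fun a b hab => hPd a b hab
    have htop : iSup P = ⊤ := top_le_iff.mp fun z _ => Opens.mem_iSup.mpr (hmem z).2
    rw [htop] at h
    have : IsAffine ((⊤ : I.subscheme.Opens) : Scheme.{u}) := h
    exact IsAffine.of_isIso I.subscheme.topIso.inv
  · let s : Set σ := {a | ∀ x ∈ C, x ∈ U a → x ∈ V}
    have h := IsAffineOpen.biSup_of_disjoint (s := s) (Set.toFinite s) (fun a _ => hP a)
      fun a _ b _ hab => hPd a b hab
    convert h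
    ext z
    simp only [Opens.coe_iSup, Set.mem_iUnion, SetLike.mem_coe]
    constructor
    · intro hz
      obtain ⟨a, ha⟩ := (hmem z).2
      refine ⟨a, (hV a).resolve_right (fun h => h _ (hmem z).1 ha hz), ha⟩
    · rintro ⟨a, ha, hza⟩
      exact ha _ (hmem z).1 hza

/-- The affine hom version. -/
theorem exists_affine_stratum {C : Set X} (hC : IsClosed C) {σ : Type*} [Finite σ] (U : σ → X.Opens)
    (hU : ∀ a, IsAffineOpen (U a)) (hdisj : ∀ a b, a ≠ b → ∀ x ∈ C, x ∈ U a → x ∉ U b)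
    (hcov : ∀ x : X, ∃ V : X.Opens, x ∈ V ∧ IsAffineOpen V ∧
      ∀ a, (∀ y ∈ C, y ∈ U a → y ∈ V) ∨ (∀ y ∈ C, y ∈ U a → y ∉ V)) :
    ∃ (Z : Scheme.{u}) (i : Z ⟶ X), IsImmersion i ∧ IsAffine Z ∧ IsAffineHom i ∧
      Set.range i = C ∩ ⋃ a, (U a : Set X) := by
  obtain ⟨Z, i, hi, hZ, hr, h⟩ := exists_stratum hC U hU hdisj
  refine ⟨Z, i, hi, hZ, isAffineHom_of_forall_exists_isAffineOpen i fun x => ?_, hr⟩
  obtain ⟨V, hxV, hV, hVa⟩ := hcov x
  exact ⟨V, hxV, hV, h V hVa⟩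

/-- Sublevel sets are closed when the index can only grow nearby. -/
theorem isClosed_sublevel {n : ℕ} (s : X → Fin (n + 1))
    (h : ∀ x, ∃ O : X.Opens, x ∈ O ∧ ∀ y ∈ O, s x ≤ s y) (i : Fin (n + 1)) :
    IsClosed {x : X | s x ≤ i} := by
  rw [← isOpen_compl_iff, isOpen_iff_forall_mem_open]
  intro x hx
  obtain ⟨O, hxO, hO⟩ := h x
  exact ⟨O, fun y hy hy' => hx ((hO y hy).trans hy'), O.2, hxO⟩

/-- A separated scheme covered by `n + 1` affine opens. -/
theorem hasAffineStratification_of_separated [X.IsSeparated] {n : ℕ} (U : Fin (n + 1) → X.Opens)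
    (hU : ∀ i, IsAffineOpen (U i)) (hcov : ⨆ i, U i = ⊤) : MoreMor.HasAffineStratification X n := by
  classical
  have hne : ∀ x : X, (Finset.univ.filter fun i => x ∈ U i).Nonempty := fun x => by
    obtain ⟨i, hi⟩ := Opens.mem_iSup.mp (hcov.ge (Opens.mem_top x))
    exact ⟨i, by simp [hi]⟩
  let s : X → Fin (n + 1) := fun x => (Finset.univ.filter fun i => x ∈ U i).max' (hne x)
  have hs : ∀ x, x ∈ U (s x) := fun x =>
    (Finset.mem_filter.mp ((Finset.univ.filter fun i => x ∈ U i).max'_mem (hne x))).2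
  have hle : ∀ x i, x ∈ U i → i ≤ s x := fun x i hi => Finset.le_max' _ i (by simp [hi])
  refine ⟨s, isClosed_sublevel s fun x => ⟨U (s x), hs x, fun y hy => hle y _ hy⟩, fun i => ?_⟩
  obtain ⟨Z, ι, hι, hZ, hr, -⟩ := exists_stratum
    (isClosed_sublevel s (fun x => ⟨U (s x), hs x, fun y hy => hle y _ hy⟩) i)
    (σ := Unit) (fun _ => U i) (fun _ => hU i) fun a b h => (h rfl).elim
  have : IsAffineHom ι := MorphismProperty.of_postcomp (W := @IsAffineHom) ι (Limits.terminal.from X)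
    (W' := @IsSeparated) inferInstance (by rw [Limits.terminal.comp_from]; infer_instance)
  refine ⟨Z, ι, hι, hZ, this, ?_⟩
  rw [hr]
  ext x
  simp only [Set.mem_inter_iff, Set.mem_setOf_eq, Set.iUnion_const, SetLike.mem_coe]
  exact ⟨fun ⟨h1, h2⟩ => le_antisymm h1 (hle x i h2), fun h => ⟨h.le, h ▸ hs x⟩⟩

end Groth.Agent.AffStrat
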