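import Groth.Agent.AffStrat.Basic
import Mathlib.Topology.KrullDimension
import Mathlib.AlgebraicGeometry.Noetherian

/-!
# Affine stratifications of Noetherian schemes of finite dimension
-/

set_option autoImplicit false
universe u

open AlgebraicGeometry CategoryTheory TopologicalSpace Topology

namespace Groth.Agent.AffStrat

variable {X : Scheme.{u}} [AlgebraicGeometry.IsNoetherian X]

/-- A dense relatively open affine part of a closed set, with affine inclusion. -/
theorem exists_dense_stratum {C : Set X} (hC : IsClosed C) :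
    ∃ O : X.Opens,
      (∃ (Z : Scheme.{u}) (ι : Z ⟶ X), IsImmersion ι ∧ IsAffine Z ∧ IsAffineHom ι ∧
        Set.range ι = C ∩ (O : Set X)) ∧
      ∀ T ∈ irreducibleComponents ↥C, ∃ x ∈ T, x.1 ∈ O := by
  classical
  have : QuasiSober ↥C := hC.isClosedEmbedding_subtypeVal.quasiSober
  let K := irreducibleComponents ↥C
  have : Finite K := NoetherianSpace.finite_irreducibleComponents.to_subtype
  choose η hη using fun T : K => QuasiSober.sober T.2.1 (isClosed_of_mem_irreducibleComponents T.1 T.2)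
  have hmem : ∀ y : X, y ∈ C → ∃ T : K, (η T).1 ⤳ y := fun y hy => by
    let T : K := ⟨irreducibleComponent (⟨y, hy⟩ : ↥C), irreducibleComponent_mem_irreducibleComponents _⟩
    refine ⟨T, (Topology.IsInducing.subtypeVal.specializes_iff (x := η T) (y := (⟨y, hy⟩ : ↥C))).mpr ?_⟩
    exact (hη T).specializes mem_irreducibleComponent
  have hinj : ∀ a b : K, (η a).1 ⤳ (η b).1 → a = b := by
    intro a b h
    have hab : η a ⤳ η b := Topology.IsInducing.subtypeVal.specializes_iff.mp h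
    have hle : b.1 ⊆ a.1 := by
      rw [← (hη a).def, ← (hη b).def]
      exact closure_minimal (Set.singleton_subset_iff.mpr hab.mem_closure) isClosed_closure
    exact (Subtype.ext (hle.antisymm (b.2.2 a.2.1 hle))).symm
  obtain ⟨S, hS, hcov⟩ := (isCompact_iff_finite_and_eq_biUnion_affineOpens (U := (⊤ : X.Opens))).mp
    isCompact_univ
  have hcov' : ∀ x : X, ∃ i ∈ S, x ∈ (i : X.Opens) := fun x => by
    have hx : x ∈ ⨆ i ∈ S, (i : X.Opens) := hcov ▸ Opens.mem_top x
    simpa only [Opens.mem_iSup, exists_prop] using hx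
  have hsel : ∀ a : K, ∃ U : X.Opens, IsAffineOpen U ∧ (η a).1 ∈ U ∧
      (∀ b, b ≠ a → ∀ y, (η b).1 ⤳ y → y ∉ U) ∧
      ∀ i ∈ S, (η a).1 ∈ (i : X.Opens) → U ≤ (i : X.Opens) := by
    intro a
    let O₁ : Set X := (⋃ b ∈ {b : K | b ≠ a}, closure {(η b).1})ᶜ
    let O₂ : Set X := ⋂ i ∈ {i ∈ S | (η a).1 ∈ (i : X.Opens)}, ((i : X.Opens) : Set X)
    have ho1 : IsOpen O₁ := (Set.Finite.isClosed_biUnion (Set.toFinite _) fun b _ => isClosed_closure).isOpen_compl
    have ho2 : IsOpen O₂ := (hS.subset fun i hi => hi.1).isOpen_biInter fun i _ => (i : X.Opens).2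
    have hη1 : (η a).1 ∈ O₁ ∩ O₂ := by
      refine ⟨fun h => ?_, Set.mem_iInter₂.mpr fun i hi => hi.2⟩
      obtain ⟨b, hb, h⟩ := Set.mem_iUnion₂.mp h
      exact hb (hinj b a (specializes_iff_mem_closure.mpr h))
    obtain ⟨_, ⟨U, hU, rfl⟩, haU, hUO⟩ :=
      X.isBasis_affineOpens.exists_subset_of_mem_open hη1 (ho1.inter ho2)
    exact ⟨U, hU, haU, fun b hb y hy hyU => (hUO hyU).1
        (Set.mem_biUnion (show b ∈ {b : K | b ≠ a} from hb) hy.mem_closure),
      fun i hi ha y hy => Set.mem_iInter₂.mp (hUO hy).2 i ⟨hi, ha⟩⟩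
  choose U hU hηU hsep hin using hsel
  have hown : ∀ a, ∀ y ∈ C, y ∈ U a → (η a).1 ⤳ y := by
    intro a y hy hya
    obtain ⟨b, hb⟩ := hmem y hy
    rcases eq_or_ne b a with rfl | h
    · exact hb
    · exact (hsep a b h y hb hya).elim
  obtain ⟨Z, ι, h1, h2, h3, h4⟩ := exists_affine_stratum hC U hU
    (fun a b hab y hy hya hyb => hsep b a hab y (hown a y hy hya) hyb)
    (fun x => by
      obtain ⟨i, hi, hxi⟩ := hcov' x
      refine ⟨i, hxi, i.2, fun a => ?_⟩
      by_cases ha : (η a).1 ∈ (i : X.Opens)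
      · exact Or.inl fun y _ hy => hin a i hi ha hy
      · exact Or.inr fun y hy hya hyi => ha ((hown a y hy hya).mem_open (i : X.Opens).2 hyi))
  refine ⟨⨆ a, U a, ⟨Z, ι, h1, h2, h3, by rw [h4]; simp⟩, fun T hT =>
    ⟨η ⟨T, hT⟩, (hη ⟨T, hT⟩).mem, Opens.mem_iSup.mpr ⟨⟨T, hT⟩, hηU ⟨T, hT⟩⟩⟩⟩

omit [AlgebraicGeometry.IsNoetherian X] in
/-- Chains avoiding a set meeting every component can be extended. -/
theorem length_add_one_le {C : Set X} (hC : IsClosed C) (O : X.Opens)
    (hO : ∀ T ∈ irreducibleComponents ↥C, ∃ x ∈ T, x.1 ∈ O)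
    (p : LTSeries (IrreducibleCloseds ↥(C \ (O : Set X)))) :
    ((p.length + 1 : ℕ) : WithBot ℕ∞) ≤ topologicalKrullDim ↥C := by
  let f : ↥(C \ (O : Set X)) → ↥C := fun x => ⟨x.1, x.2.1⟩
  have hf : IsClosedEmbedding f := by
    refine IsClosedEmbedding.of_comp Topology.IsEmbedding.subtypeVal ?_
    exact (hC.sdiff O.2).isClosedEmbedding_subtypeVal
  let q := p.map (IrreducibleCloseds.map f hf.continuous)
    (IrreducibleCloseds.map_strictMono_of_isInducing hf.isInducing)
  obtain ⟨T, hT, hsub⟩ := exists_mem_irreducibleComponents_subset_of_isIrreducible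
    (q.last : Set ↥C) q.last.isIrreducible
  let T' : IrreducibleCloseds ↥C := ⟨T, hT.1, isClosed_of_mem_irreducibleComponents T hT⟩
  have hlt : q.last < T' := by
    refine lt_of_le_of_ne hsub fun h => ?_
    obtain ⟨x, hxT, hxO⟩ := hO T hT
    have hx : x ∈ (q.last : Set ↥C) := h.symm ▸ (show x ∈ (T' : Set ↥C) from hxT)
    have hl : q.last = IrreducibleCloseds.map f hf.continuous p.last := LTSeries.last_map ..
    rw [hl] at hx
    have hx' : x ∈ Set.range f :=
      hf.isClosed_range.closure_eq ▸ closure_mono (Set.image_subset_range f _) hx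
    obtain ⟨y, rfl⟩ := hx'
    exact y.2.2 hxO
  exact le_of_eq_of_le (by simp [q]) (Order.LTSeries.length_le_krullDim (q.snoc T' hlt))

theorem exists_strat (d : ℕ) : ∀ C : Set X, IsClosed C → topologicalKrullDim ↥C ≤ (d : WithBot ℕ∞) →
    ∃ s : X → Fin (d + 1), (∀ x ∈ C, ∃ O : X.Opens, x ∈ O ∧ ∀ y ∈ O, y ∈ C → s x ≤ s y) ∧
      ∀ i, ∃ (Z : Scheme.{u}) (ι : Z ⟶ X), IsImmersion ι ∧ IsAffine Z ∧ IsAffineHom ι ∧
        Set.range ι = {x | x ∈ C ∧ s x = i} := by
  induction d with
  | zero =>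
    intro C hC hd
    obtain ⟨O, ⟨Z, ι, h1, h2, h3, hr⟩, hO⟩ := exists_dense_stratum hC
    have hCO : C ⊆ O := by
      intro x hx
      by_contra hxO
      have h := length_add_one_le hC O hO (RelSeries.singleton _
        ⟨closure {(⟨x, hx, hxO⟩ : ↥(C \ (O : Set X)))}, isIrreducible_singleton.closure, isClosed_closure⟩)
      exact absurd (h.trans hd) (by simp)
    refine ⟨fun _ => 0, fun x _ => ⟨⊤, trivial, fun y _ _ => le_rfl⟩, fun i => ⟨Z, ι, h1, h2, h3, ?_⟩⟩
    rw [hr, Set.inter_eq_left.mpr hCO]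
    ext x
    simp only [Set.mem_setOf_eq, iff_self_and]
    exact fun _ => Fin.ext (by omega)
  | succ d ih =>
    intro C hC hd
    classical
    obtain ⟨O, ⟨Z, ι, h1, h2, h3, hr⟩, hO⟩ := exists_dense_stratum hC
    have hd' : topologicalKrullDim ↥(C \ (O : Set X)) ≤ (d : WithBot ℕ∞) := by
      refine iSup_le fun p => ?_
      have h := (length_add_one_le hC O hO p).trans hd
      have h' : p.length + 1 ≤ d + 1 := by exact_mod_cast h
      exact_mod_cast (show p.length ≤ d by omega)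
    obtain ⟨s', hs', hst⟩ := ih (C \ (O : Set X)) (hC.sdiff O.2) hd'
    let s : X → Fin (d + 1 + 1) := fun x => if x ∈ O then Fin.last (d + 1) else (s' x).castSucc
    refine ⟨s, fun x hx => ?_, fun i => ?_⟩
    · by_cases hxO : x ∈ O
      · exact ⟨O, hxO, fun y hy _ => by simp [s, hxO, hy]⟩
      · obtain ⟨W, hxW, hW⟩ := hs' x ⟨hx, hxO⟩
        refine ⟨W, hxW, fun y hy hyC => ?_⟩
        by_cases hyO : y ∈ O
        · simp [s, hyO, Fin.le_last]
        · simpa [s, hxO, hyO] using hW y hy ⟨hyC, hyO⟩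
    · induction i using Fin.lastCases with
      | last =>
        refine ⟨Z, ι, h1, h2, h3, ?_⟩
        rw [hr]
        ext x
        by_cases hxO : x ∈ O <;> simp [s, hxO]
      | cast i =>
        obtain ⟨Z', ι', h1', h2', h3', hr'⟩ := hst i
        refine ⟨Z', ι', h1', h2', h3', ?_⟩
        rw [hr']
        ext x
        by_cases hxO : x ∈ O <;> simp [s, hxO, (Fin.castSucc_lt_last i).ne']

theorem hasAffineStratification_of_dim {d : ℕ} (hd : topologicalKrullDim ↥X ≤ (d : WithBot ℕ∞)) :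
    MoreMor.HasAffineStratification X d := by
  obtain ⟨s, hs, hst⟩ := exists_strat d (Set.univ : Set X) isClosed_univ
    ((topologicalKrullDim_subspace_le _ _).trans hd)
  refine ⟨s, isClosed_sublevel s fun x => ?_, fun i => ?_⟩
  · obtain ⟨O, hxO, hO⟩ := hs x trivial
    exact ⟨O, hxO, fun y hy => hO y hy trivial⟩
  · obtain ⟨Z, ι, h1, h2, h3, hr⟩ := hst i
    exact ⟨Z, ι, h1, h2, h3, by simpa using hr⟩

end Groth.Agent.AffStrat
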