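import Groth.Agent.AffStrat.Basic
import Mathlib.AlgebraicGeometry.Morphisms.QuasiSeparated

/-!
# Affine stratifications exist exactly for qcqs schemes
-/

set_option autoImplicit false
universe u

open AlgebraicGeometry CategoryTheory TopologicalSpace

namespace Groth.Agent.AffStrat

variable {X : Scheme.{u}}

theorem qcqs_of_stratification {n : ℕ} (h : MoreMor.HasAffineStratification X n) :
    CompactSpace X ∧ QuasiSeparatedSpace X := by
  obtain ⟨s, -, h⟩ := h
  choose Z ι hι hZ hA hr using h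
  have hcov : ∀ x : X, x ∈ Set.range (ι (s x)) := fun x => by rw [hr]; rfl
  refine ⟨⟨?_⟩, ⟨fun U V hUo hUc hVo hVc => ?_⟩⟩
  · have : (Set.univ : Set X) = ⋃ i, Set.range (ι i) :=
      (Set.eq_univ_of_forall fun x => Set.mem_iUnion.mpr ⟨s x, hcov x⟩).symm
    rw [this]
    exact isCompact_iUnion fun i => isCompact_range (ι i).continuous
  · have : U ∩ V = ⋃ i, (ι i) '' ((ι i) ⁻¹' U ∩ (ι i) ⁻¹' V) := by
      refine subset_antisymm (fun x hx => ?_) (Set.iUnion_subset fun i => ?_)
      · obtain ⟨z, hz⟩ := hcov x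
        exact Set.mem_iUnion.mpr ⟨s x, z, ⟨by rw [Set.mem_preimage, hz]; exact hx.1,
          by rw [Set.mem_preimage, hz]; exact hx.2⟩, hz⟩
      · rintro _ ⟨z, ⟨h1, h2⟩, rfl⟩
        exact ⟨h1, h2⟩
    rw [this]
    refine isCompact_iUnion fun i => IsCompact.image ?_ (ι i).continuous
    exact QuasiSeparatedSpace.inter_isCompact _ _ (hUo.preimage (ι i).continuous)
      (QuasiCompact.isCompact_preimage (f := ι i) U hUo hUc) (hVo.preimage (ι i).continuous)
      (QuasiCompact.isCompact_preimage (f := ι i) V hVo hVc)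

theorem exists_stratification [CompactSpace X] [QuasiSeparatedSpace X] :
    ∃ n, MoreMor.HasAffineStratification X n := by
  classical
  obtain ⟨S, hS, hcov⟩ := (isCompact_iff_finite_and_eq_biUnion_affineOpens (U := (⊤ : X.Opens))).mp
    isCompact_univ
  have := hS.to_subtype
  let V : S → X.Opens := fun j => j.1.1
  have hVa : ∀ j, IsAffineOpen (V j) := fun j => j.1.2
  have hVcov : ∀ x : X, ∃ j, x ∈ V j := fun x => by
    have hx : x ∈ ⨆ i ∈ S, (i : X.Opens) := hcov ▸ Opens.mem_top x
    simp only [Opens.mem_iSup] at hx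
    obtain ⟨i, hi, hxi⟩ := hx
    exact ⟨⟨i, hi⟩, hxi⟩
  let _ := Fintype.ofFinite S
  let VP : Finset S → X.Opens := fun P => P.inf V
  have hVP : ∀ P : Finset S, IsCompact (VP P : Set X) := by
    intro P
    induction P using Finset.induction with
    | empty => simpa [VP] using isCompact_univ
    | insert j P _ ih =>
      simp only [VP, Finset.inf_insert, Opens.coe_inf]
      exact QuasiSeparatedSpace.inter_isCompact _ _ (V j).2 (hVa j).isCompact (P.inf V).2 ih
  choose D hD hDeq using fun P => (isCompact_iff_finite_and_eq_biUnion_affineOpens (U := VP P)).mp (hVP P)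
  let κ := Σ P : Finset S, D P
  have : ∀ P, Finite (D P) := fun P => (hD P).to_subtype
  have : Finite κ := inferInstanceAs (Finite (Σ P : Finset S, D P))
  obtain ⟨K, ⟨e⟩⟩ := Finite.exists_equiv_fin κ
  let n := (Fintype.card S + 1) * K
  let rank : κ → Fin (n + 1) := fun k => ⟨k.1.card * K + e k, by
    have h1 : k.1.card ≤ Fintype.card S := Finset.card_le_univ _
    have h2 := (e k).isLt
    have h3 := Nat.mul_le_mul_right K h1
    simp only [n, add_mul, one_mul]
    omega⟩
  have hrank : Function.Injective rank := fun a b hab => by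
    have h : a.1.card * K + e a = b.1.card * K + e b := congrArg Fin.val hab
    refine e.injective (Fin.ext ?_)
    have h1 := congrArg (· % K) h
    simp only [Nat.mul_add_mod', Nat.mod_eq_of_lt (e a).isLt, Nat.mod_eq_of_lt (e b).isLt] at h1
    exact h1
  let W : κ → X.Opens := fun k => k.2.1.1
  have hW : ∀ k, W k ≤ VP k.1 := fun k x hx => by
    rw [hDeq]
    simp only [Opens.mem_iSup]
    exact ⟨k.2.1, k.2.2, hx⟩
  let p : X → Finset S := fun x => Finset.univ.filter fun j => x ∈ V j
  have hpP : ∀ (P : Finset S) (x : X), x ∈ VP P → P ⊆ p x := by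
    intro P x hx j hj
    exact Finset.mem_filter.mpr ⟨Finset.mem_univ j, (Finset.inf_le hj : P.inf V ≤ V j) hx⟩
  have hpx : ∀ x, x ∈ VP (p x) := by
    intro x
    show x ∈ (p x).inf V
    have : ∀ P : Finset S, (∀ j ∈ P, x ∈ V j) → x ∈ P.inf V := by
      intro P
      induction P using Finset.induction with
      | empty => simp
      | insert j P _ ih =>
        intro h
        rw [Finset.inf_insert]
        exact ⟨h j (Finset.mem_insert_self j P), ih fun i hi => h i (Finset.mem_insert_of_mem hi)⟩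
    exact this _ fun j hj => (Finset.mem_filter.mp hj).2
  have hk : ∀ x, ∃ k : κ, k.1 = p x ∧ x ∈ W k := fun x => by
    have h := hpx x
    rw [hDeq] at h
    simp only [Opens.mem_iSup] at h
    obtain ⟨i, hi, hxi⟩ := h
    exact ⟨⟨p x, ⟨i, hi⟩⟩, rfl, hxi⟩
  let _ := Fintype.ofFinite κ
  let cand : X → Finset (Fin (n + 1)) := fun x =>
    (Finset.univ.filter fun k : κ => k.1 = p x ∧ x ∈ W k).image rank
  have hne : ∀ x, (cand x).Nonempty := fun x => by
    obtain ⟨k, hk⟩ := hk x
    exact ⟨rank k, Finset.mem_image_of_mem rank (by simp [hk])⟩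
  let s : X → Fin (n + 1) := fun x => (cand x).max' (hne x)
  have hs : ∀ x, ∃ k : κ, k.1 = p x ∧ x ∈ W k ∧ rank k = s x := fun x => by
    obtain ⟨k, hk, hks⟩ := Finset.mem_image.mp ((cand x).max'_mem (hne x))
    exact ⟨k, (Finset.mem_filter.mp hk).2.1, (Finset.mem_filter.mp hk).2.2, hks⟩
  have hge : ∀ (k : κ) (y : X), y ∈ W k → rank k ≤ s y := by
    intro k y hy
    have hsub := hpP k.1 y (hW k hy)
    rcases eq_or_ne k.1 (p y) with h | h
    · exact Finset.le_max' _ _ (Finset.mem_image_of_mem rank (by simp [h, hy]))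
    · obtain ⟨k', hk'1, -, hk'⟩ := hs y
      rw [← hk']
      have hlt : k.1.card < k'.1.card := by
        rw [hk'1]; exact Finset.card_lt_card (lt_of_le_of_ne hsub h)
      have h2 := (e k).isLt
      have h3 : (k.1.card + 1) * K ≤ k'.1.card * K := Nat.mul_le_mul_right K hlt
      rw [Fin.le_def]
      show k.1.card * K + e k ≤ k'.1.card * K + e k'
      rw [add_mul, one_mul] at h3
      omega
  have hcl := isClosed_sublevel s fun x => by
    obtain ⟨k, -, hxk, hk⟩ := hs x
    exact ⟨W k, hxk, fun y hy => hk ▸ hge k y hy⟩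
  refine ⟨n, s, hcl, fun i => ?_⟩
  have hp_eq : ∀ k : κ, rank k = i → ∀ y, s y ≤ i → y ∈ W k → p y = k.1 := by
    intro k hk y hy hyk
    obtain ⟨k', h1, -, h3⟩ := hs y
    have : k' = k := hrank (h3.trans ((le_antisymm hy (hk ▸ hge k y hyk)).trans hk.symm))
    rw [← h1, this]
  obtain ⟨Z, ι, hι, hZ, hA, hr⟩ := exists_affine_stratum (hcl i) (σ := {k : κ // rank k = i})
    (fun k => W k.1) (fun k => k.1.2.1.2)
    (fun a b hab => (hab (Subtype.ext (hrank (a.2.trans b.2.symm)))).elim)
    (fun x => by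
      obtain ⟨j, hj⟩ := hVcov x
      refine ⟨V j, hj, hVa j, fun k => ?_⟩
      by_cases hjk : j ∈ k.1.1
      · exact Or.inl fun y hy hyk => (Finset.inf_le hjk : k.1.1.inf V ≤ V j) (hW k.1 hyk)
      · exact Or.inr fun y hy hyk hyj => hjk (hp_eq k.1 k.2 y hy hyk ▸
          Finset.mem_filter.mpr ⟨Finset.mem_univ j, hyj⟩))
  refine ⟨Z, ι, hι, hZ, hA, ?_⟩
  rw [hr]
  ext y
  simp only [Set.mem_inter_iff, Set.mem_setOf_eq, Set.mem_iUnion, SetLike.mem_coe]
  constructor
  · rintro ⟨h1, k, hk⟩
    exact le_antisymm h1 (k.2 ▸ hge k.1 y hk)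
  · intro h
    obtain ⟨k, -, hyk, hk⟩ := hs y
    exact ⟨h.le, ⟨k, hk.trans h⟩, hyk⟩

end Groth.Agent.AffStrat
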